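import Mathlib
import Cfsg.Agent.LinearOrders.Projective
import Cfsg.Agent.UnitOrders.Basic
import Cfsg.Agent.Linear.Basic
import Cfsg.Agent.GLFourTwo.Iso

/-!
# `PSL(3, 4)` has no element of order 15, `PSL(4, 2)` has one
-/

set_option autoImplicit false

open Polynomial Matrix

namespace CfsgLib.OrderFifteen

variable {K : Type*} [Field K] [Fintype K]

theorem not_order_fifteen (hK : Fintype.card K = 4)
    (x : Matrix.ProjectiveSpecialLinearGroup (Fin 3) K) : orderOf x ≠ 15 := by
  classical
  induction x using QuotientGroup.induction_on with | H g =>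
  intro ho
  haveI : Fact (Nat.Prime 2) := ⟨Nat.prime_two⟩
  haveI : CharP K 2 := charP_of_card_eq_prime_pow (f := 2) (by rw [hK]; norm_num)
  set A := (g : Matrix (Fin 3) (Fin 3) K) with hA
  have hscal : ∀ k, (∃ c : K, A ^ k = c • 1) → 15 ∣ k := fun k h => by
    rw [← ho]; exact orderOf_dvd_of_pow_eq_one ((CfsgLib.LinearOrders.mk_pow_eq_one_iff g k).2 h)
  obtain ⟨c, hc⟩ : ∃ c : K, A ^ 15 = c • 1 :=
    (CfsgLib.LinearOrders.mk_pow_eq_one_iff g 15).1 (ho ▸ pow_orderOf_eq_one _)
  have hc3 : c ^ 3 = 1 := by
    have := congrArg det hc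
    rw [det_pow, hA, Matrix.SpecialLinearGroup.det_coe, one_pow, det_smul, det_one, mul_one,
      Fintype.card_fin] at this
    exact this.symm
  have h45 : A ^ 45 = 1 := by rw [show 45 = 15 * 3 by norm_num, pow_mul, hc, _root_.smul_pow, hc3, one_pow, one_smul]
  have hunit : ∀ y : K, y ≠ 0 → y ^ 3 = 1 := fun y hy => by
    have := FiniteField.pow_card_sub_one_eq_one y hy
    rwa [hK] at this
  have hsq := CfsgLib.LinearOrders.squarefree_minpoly A (p := 2) (E := 45) (by norm_num) h45
  set χ := A.charpoly with hχ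
  have hdeg : χ.natDegree = 3 := by rw [hχ, charpoly_natDegree_eq_dim, Fintype.card_fin]
  have hmon : χ.Monic := charpoly_monic A
  have hχ0 : χ.coeff 0 = -1 := by
    have := Matrix.det_eq_sign_charpoly_coeff A
    rw [hA, Matrix.SpecialLinearGroup.det_coe, Fintype.card_fin] at this
    rw [hχ, hA]
    linear_combination this
  -- a criterion for a power to be killed
  have crit : ∀ Q : K[X], (∀ f : K[X], f.Monic → Irreducible f → f ∣ χ → f ∣ Q) → aeval A Q = 0 := by
    intro Q h
    have h1 := CfsgLib.LinearOrders.dvd_pow_natDegree Q _ _ (minpoly.monic (Matrix.isIntegral A)) rfl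
      (fun f hf hfi hfd => h f hf hfi (hfd.trans (Matrix.minpoly_dvd_charpoly A)))
    have h2 := (hsq.dvd_pow_iff_dvd (minpoly.natDegree_pos (Matrix.isIntegral A)).ne').1 h1
    exact aeval_eq_zero_of_dvd_aeval_eq_zero h2 (minpoly.aeval K A)
  by_cases hroot : ∃ a : K, χ.IsRoot a
  · obtain ⟨a, ha⟩ := hroot
    obtain ⟨R, hR⟩ := dvd_iff_isRoot.2 ha
    have hRm : R.Monic := (monic_X_sub_C a).of_mul_monic_left (hR ▸ hmon)
    have hRd : R.natDegree = 2 := by
      have := congrArg natDegree hR
      rw [hdeg, (monic_X_sub_C a).natDegree_mul hRm, natDegree_X_sub_C] at this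
      omega
    have ha0 : a * R.coeff 0 = 1 := by
      have := congrArg (fun P : K[X] => P.coeff 0) hR
      simp [mul_coeff_zero, hχ0] at this
      linear_combination -this
    have hane : a ≠ 0 := left_ne_zero_of_mul_eq_one ha0
    have hdvd : ∀ f : K[X], Irreducible f → f ∣ χ → f ∣ X - C a ∨ f ∣ R :=
      fun f hf h => hf.prime.dvd_or_dvd (hR ▸ h)
    by_cases hRi : Irreducible R
    · -- the fifth power is scalar
      haveI : Fact (Irreducible R) := ⟨hRi⟩
      have hy := CfsgLib.UnitOrders.root_pow_geomN hRm hRi 1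
      rw [one_mul, hRd, hK, pow_one] at hy
      norm_num [CfsgLib.LinearOrders.geomN, Finset.sum_range_succ] at hy
      have h5 : aeval A (X ^ 5 - C (R.coeff 0)) = 0 := crit _ fun f hfm hfi hf => by
        rcases hdvd f hfi hf with h | h
        · refine h.trans (dvd_iff_isRoot.2 ?_)
          simp only [IsRoot, eval_sub, eval_pow, eval_X, eval_C]
          have h3 := hunit a hane
          have : R.coeff 0 = a ^ 2 := by linear_combination (R.coeff 0) * (-h3) + a ^ 2 * ha0
          rw [this]
          linear_combination a ^ 2 * h3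
        · refine h.trans ?_
          rw [← AdjoinRoot.mk_eq_zero, map_sub, map_pow, AdjoinRoot.mk_X, AdjoinRoot.mk_C, hy,
            ← AdjoinRoot.algebraMap_eq, sub_self]
      rw [map_sub, map_pow, aeval_X, aeval_C, sub_eq_zero, Algebra.algebraMap_eq_smul_one] at h5
      have := hscal 5 ⟨_, h5⟩
      norm_num at this
    · -- all eigenvalues are in the field
      have h3 : aeval A (X ^ 3 - 1 : K[X]) = 0 := crit _ fun f hfm hfi hf => by
        obtain ⟨b, hb⟩ : ∃ b, f.IsRoot b := by
          rcases hdvd f hfi hf with h | h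
          · exact ⟨a, dvd_iff_isRoot.1 ((hfi.associated_of_dvd (irreducible_X_sub_C a) h).symm.dvd)⟩
          · have hle := natDegree_le_of_dvd h hRm.ne_zero
            have hpos := hfi.natDegree_pos
            have hd1 : f.natDegree = 1 := by
              by_contra hne
              have hfR : f = R := (eq_of_monic_of_dvd_of_natDegree_le hfm hRm h (by omega)).symm
              exact hRi (hfR ▸ hfi)
            exact ⟨-f.coeff 0, by
              have e := hfm.eq_X_add_C hd1
              rw [IsRoot, e]
              simp⟩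
        have hfb : f ∣ X - C b :=
          ((irreducible_X_sub_C b).associated_of_dvd hfi (dvd_iff_isRoot.2 hb)).symm.dvd
        refine hfb.trans (dvd_iff_isRoot.2 ?_)
        have hb0 : b ≠ 0 := by
          intro h
          have hz : χ.eval b = 0 := by
            obtain ⟨t, ht⟩ := hf
            rw [ht, eval_mul, show f.eval b = 0 from hb, zero_mul]
          rw [h, ← coeff_zero_eq_eval_zero, hχ0] at hz
          norm_num at hz
        simp [hunit b hb0]
      rw [map_sub, map_pow, aeval_X, map_one, sub_eq_zero] at h3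
      have := hscal 3 ⟨1, by rw [one_smul]; exact h3⟩
      norm_num at this
  · -- irreducible characteristic polynomial
    have hirr : Irreducible χ := by
      rw [Polynomial.irreducible_iff_roots_eq_zero_of_degree_le_three (by omega) (by omega)]
      refine Multiset.eq_zero_of_forall_notMem fun a ha => hroot ⟨a, ?_⟩
      exact (mem_roots hmon.ne_zero).1 ha
    haveI : Fact (Irreducible χ) := ⟨hirr⟩
    haveI : Finite (AdjoinRoot χ) := Nat.finite_of_card_ne_zero (by
      rw [CfsgLib.LinearOrders.card_adjoinRoot hirr.ne_zero]; exact pow_ne_zero _ Fintype.card_ne_zero)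
    haveI : Fintype (AdjoinRoot χ) := Fintype.ofFinite _
    have h63 : aeval A (X ^ 63 - 1 : K[X]) = 0 := by
      refine aeval_eq_zero_of_dvd_aeval_eq_zero (p := χ) ?_ (Matrix.aeval_self_charpoly A)
      rw [← AdjoinRoot.mk_eq_zero, map_sub, map_pow, AdjoinRoot.mk_X, map_one, sub_eq_zero]
      have hne : AdjoinRoot.root χ ≠ 0 := fun h => by
        have e := AdjoinRoot.eval₂_root χ
        rw [h, eval₂_at_zero, hχ0, map_neg, map_one] at e
        norm_num at e
      have := FiniteField.pow_card_sub_one_eq_one _ hne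
      rwa [← Nat.card_eq_fintype_card, CfsgLib.LinearOrders.card_adjoinRoot hirr.ne_zero, hK, hdeg] at this
    rw [map_sub, map_pow, aeval_X, map_one, sub_eq_zero] at h63
    have h9 : A ^ 9 = 1 := by
      have := pow_gcd_eq_one.mpr ⟨h63, h45⟩
      norm_num at this
      exact this
    have := hscal 9 ⟨1, by rw [one_smul]; exact h9⟩
    norm_num at this

theorem exists_order_fifteen {F : Type*} [Field F] [Fintype F] (hF : Fintype.card F = 2) :
    ∃ x : Matrix.ProjectiveSpecialLinearGroup (Fin 4) F, orderOf x = 15 := by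
  haveI : Fact (Nat.Prime 2) := ⟨Nat.prime_two⟩
  let e : ZMod 2 ≃+* F := ZMod.ringEquivOfPrime F Nat.prime_two hF
  let σ : alternatingGroup (Fin 8) := ⟨c[(0 : Fin 8), 1, 2] * c[(3 : Fin 8), 4, 5, 6, 7],
    Equiv.Perm.mem_alternatingGroup.2 (by decide +kernel)⟩
  have hσ : orderOf σ = 15 := by
    rw [orderOf_eq_iff (by norm_num)]
    exact ⟨by decide +kernel, by decide +kernel⟩
  let φ : Matrix.SpecialLinearGroup (Fin 4) (ZMod 2) →* Matrix.SpecialLinearGroup (Fin 4) F :=
    Matrix.SpecialLinearGroup.map e.toRingHom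
  have hφ : Function.Injective φ := fun a b h => by
    refine Subtype.ext (Matrix.map_injective e.injective ?_)
    exact congrArg Subtype.val h
  have hcen : ∀ g : Matrix.SpecialLinearGroup (Fin 4) F,
      g ∈ Subgroup.center (Matrix.SpecialLinearGroup (Fin 4) F) → g = 1 := by
    intro g hg
    obtain ⟨c, hc4, hc⟩ := Matrix.SpecialLinearGroup.mem_center_iff.1 hg
    rw [Fintype.card_fin] at hc4
    have hc1 : c = 1 := by
      have hne : c ≠ 0 := fun h => by simp [h] at hc4
      have := FiniteField.pow_card_sub_one_eq_one c hne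
      rw [hF] at this
      simpa using this
    apply Subtype.ext
    rw [← hc, hc1]
    simp
  have hinj : Function.Injective (QuotientGroup.mk' (Subgroup.center (Matrix.SpecialLinearGroup (Fin 4) F))) :=
    (injective_iff_map_eq_one _).2 fun g hg => hcen g ((QuotientGroup.eq_one_iff g).1 hg)
  refine ⟨QuotientGroup.mk' _ (φ (CfsgLib.GLFourTwo.equivAlt.symm σ)), ?_⟩
  rw [orderOf_injective _ hinj, orderOf_injective _ hφ, MulEquiv.orderOf_eq, hσ]

theorem card_eq {F : Type*} [Field F] [Fintype F] (hF : Fintype.card F = 2) (hK : Fintype.card K = 4) :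
    Nat.card (Matrix.ProjectiveSpecialLinearGroup (Fin 4) F) =
      Nat.card (Matrix.ProjectiveSpecialLinearGroup (Fin 3) K) := by
  classical
  have h1 := CfsgLib.Linear.card_PSL_mul (n := Fin 4) (F := F)
  have h2 := CfsgLib.Linear.card_PSL_mul (n := Fin 3) (F := K)
  have h3 := CfsgLib.Linear.card_SL_mul (n := Fin 4) (F := F)
  have h4 := CfsgLib.Linear.card_SL_mul (n := Fin 3) (F := K)
  rw [CfsgLib.Linear.card_GL, Fintype.card_fin, Fin.prod_univ_four, hF] at h3
  rw [CfsgLib.Linear.card_GL, Fintype.card_fin, Fin.prod_univ_three, hK] at h4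
  rw [Fintype.card_fin, hF] at h1
  rw [Fintype.card_fin, hK] at h2
  norm_num at h1 h2 h3 h4
  simp only [← Nat.card_eq_fintype_card] at h1 h2 h3 h4
  omega

end CfsgLib.OrderFifteen
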